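import Mathlib
import Groth.Agent.GrpdBasic.Saturation

/-! Affine opens around finitely many generic points of a quasi-separated scheme. -/

set_option autoImplicit false
universe u
open CategoryTheory AlgebraicGeometry TopologicalSpace

namespace Groth.Agent.GenericAffine

variable {X : Scheme.{u}}

theorem eq_of_specializes_of_mem_irreducibleComponents {η y : X}
    (hη : closure ({η} : Set X) ∈ irreducibleComponents (X : Type u)) (h : y ⤳ η) : y = η := by
  have hle : closure ({η} : Set X) ⊆ closure {y} :=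
    closure_minimal (Set.singleton_subset_iff.mpr h.mem_closure) isClosed_closure
  have hy : IsIrreducible (closure ({y} : Set X)) := isIrreducible_singleton.closure
  exact ((isGenericPoint_closure (x := η)).eq (Set.Subset.antisymm (hη.2 hy hle) hle :)).symm

variable [QuasiSeparatedSpace X]

theorem notMem_closure {η : X} (hη : ∀ y : X, y ⤳ η → y = η) (U : X.Opens)
    (hU : IsAffineOpen U) (h : η ∉ U) : η ∉ closure (U : Set X) := by
  intro hc
  have : CompactSpace U := isCompact_iff_compactSpace.mp hU.isCompact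
  obtain ⟨c, -, hc⟩ := (GrpdBasic.mem_closure_image_iff U.ι ⊤ η).mp (by
    rwa [Closeds.coe_top, Set.image_univ, Scheme.Opens.range_ι])
  exact h (hη _ hc ▸ c.2)

theorem exists_disjoint_affine {η : X} (hη : ∀ y : X, y ⤳ η → y = η) (U : X.Opens)
    (hU : IsAffineOpen U) (h : η ∉ U) (V : X.Opens) (hV : η ∈ V) :
    ∃ N : X.Opens, IsAffineOpen N ∧ η ∈ N ∧ N ≤ V ∧ Disjoint U N := by
  obtain ⟨N, hN, hηN, hle⟩ := exists_isAffineOpen_mem_and_subset (x := η)
    (U := V ⊓ ⟨(closure (U : Set X))ᶜ, isClosed_closure.isOpen_compl⟩)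
    ⟨hV, notMem_closure hη U hU h⟩
  refine ⟨N, hN, hηN, fun x hx => (hle hx).1, disjoint_iff.mpr (eq_bot_iff.mpr fun x hx => ?_)⟩
  exact absurd (subset_closure hx.1) (hle hx.2).2

theorem isAffineOpen_sup {U V : X.Opens} (hU : IsAffineOpen U) (hV : IsAffineOpen V)
    (h : Disjoint U V) : IsAffineOpen (U ⊔ V) := by
  have := IsAffineOpen.iSup_of_disjoint (U := fun b : Bool => cond b U V)
    (by rintro (_ | _) <;> assumption)
    (by rintro (_ | _) (_ | _) hne
        · exact absurd rfl hne
        · exact h.symm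
        · exact h
        · exact absurd rfl hne)
  rwa [iSup_bool_eq] at this

/-- An affine open can be enlarged to contain finitely many generic points. -/
theorem exists_affine_superset (T : Set X) (hT : T.Finite) (hmax : ∀ η ∈ T, ∀ y : X, y ⤳ η → y = η)
    (U : X.Opens) (hU : IsAffineOpen U) :
    ∃ W : X.Opens, IsAffineOpen W ∧ U ≤ W ∧ T ⊆ W := by
  induction T, hT using Set.Finite.induction_on with
  | empty => exact ⟨U, hU, le_rfl, Set.empty_subset _⟩
  | @insert a s ha hs ih =>
    obtain ⟨W, hW, hUW, hsW⟩ := ih fun η hη => hmax η (Set.mem_insert_of_mem _ hη)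
    by_cases haW : a ∈ W
    · exact ⟨W, hW, hUW, Set.insert_subset haW hsW⟩
    · obtain ⟨N, hN, haN, -, hd⟩ := exists_disjoint_affine (hmax a (Set.mem_insert _ _)) W hW haW ⊤
        (Set.mem_univ _)
      exact ⟨W ⊔ N, isAffineOpen_sup hW hN hd, hUW.trans le_sup_left,
        Set.insert_subset (Or.inr haN) fun x hx => Or.inl (hsW hx)⟩

theorem exists_affine_of_generic (T : Set X) (hT : T.Finite)
    (hmax : ∀ η ∈ T, ∀ y : X, y ⤳ η → y = η) : ∃ W : X.Opens, IsAffineOpen W ∧ T ⊆ W := by
  obtain ⟨W, hW, -, h⟩ := exists_affine_superset T hT hmax ⊥ (isAffineOpen_bot X)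
  exact ⟨W, hW, h⟩

/-- Pairwise disjoint affine neighbourhoods. -/
theorem exists_pairwise_disjoint {ι : Type*} [Fintype ι] (η : ι → X) (hinj : Function.Injective η)
    (hmax : ∀ i, ∀ y : X, y ⤳ η i → y = η i) :
    ∃ U : ι → X.Opens, (∀ i, IsAffineOpen (U i) ∧ η i ∈ U i) ∧
      Pairwise (Function.onFun Disjoint U) := by
  classical
  suffices ∀ s : Finset ι, ∃ U : ι → X.Opens, (∀ i, IsAffineOpen (U i) ∧
      (i ∈ s → η i ∈ U i) ∧ ∀ j, η j ∈ U i → j = i) ∧ Pairwise (Function.onFun Disjoint U) by
    obtain ⟨U, h, hd⟩ := this Finset.univ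
    exact ⟨U, fun i => ⟨(h i).1, (h i).2.1 (Finset.mem_univ i)⟩, hd⟩
  intro s
  induction s using Finset.induction with
  | empty =>
    exact ⟨fun _ => ⊥, fun i => ⟨isAffineOpen_bot X, fun h => absurd h (Finset.notMem_empty _),
      fun j hj => (Set.notMem_empty _ hj).elim⟩, fun i j _ => disjoint_bot_left⟩
  | @insert a s ha ih =>
    obtain ⟨U, hU, hd⟩ := ih
    by_cases haU : η a ∈ U a
    · refine ⟨U, fun i => ⟨(hU i).1, fun hi => ?_, (hU i).2.2⟩, hd⟩
      rcases Finset.mem_insert.mp hi with rfl | hi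
      · exact haU
      · exact (hU i).2.1 hi
    let B : X.Opens := ⨆ i, U i
    have hB : IsAffineOpen B := IsAffineOpen.iSup_of_disjoint (fun i => (hU i).1) hd
    have haB : η a ∉ B := fun h => by
      obtain ⟨i, hi⟩ := Opens.mem_iSup.mp h
      obtain rfl := (hU i).2.2 a hi
      exact haU hi
    let C : Set X := ⋃ j : {j // j ≠ a}, closure {η j.1}
    have hC : IsClosed C := isClosed_iUnion_of_finite fun _ => isClosed_closure
    have haC : η a ∉ C := fun h => by
      obtain ⟨j, hj⟩ := Set.mem_iUnion.mp h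
      exact j.2 (hinj (hmax a _ (specializes_iff_mem_closure.mpr hj)))
    obtain ⟨N, hN, haN, hle, hdN⟩ := exists_disjoint_affine (hmax a) B hB haB
      ⟨Cᶜ, hC.isOpen_compl⟩ haC
    refine ⟨Function.update U a N, fun i => ?_, fun i j hij => ?_⟩
    · rcases eq_or_ne i a with rfl | hi
      · rw [Function.update_self]
        exact ⟨hN, fun _ => haN, fun j hj => by_contra fun hji =>
          hle hj (Set.mem_iUnion.mpr ⟨⟨j, hji⟩, subset_closure rfl⟩)⟩
      · rw [Function.update_of_ne hi]
        exact ⟨(hU i).1, fun h => (hU i).2.1 ((Finset.mem_insert.mp h).resolve_left hi),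
          (hU i).2.2⟩
    · rcases eq_or_ne i a with rfl | hi
      · rw [Function.onFun, Function.update_self, Function.update_of_ne hij.symm]
        exact (hdN.mono_left (le_iSup U j)).symm
      · rcases eq_or_ne j a with rfl | hj
        · rw [Function.onFun, Function.update_self, Function.update_of_ne hij]
          exact hdN.mono_left (le_iSup U i)
        · rw [Function.onFun, Function.update_of_ne hi, Function.update_of_ne hj]
          exact hd hij

end Groth.Agent.GenericAffine
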